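import Groth.Agent.H53.ValImage.Sch
import Groth.Agent.H53.RelNorm.Codim0
import Groth.Agent.H53.ZarGlueAff
import Groth.Agent.H52.Epi
import Groth.Agent.H52.QC
import Groth.Agent.H52.Points

set_option autoImplicit false
set_option backward.isDefEq.respectTransparency false
universe u
open CategoryTheory CategoryTheory.Limits AlgebraicGeometry AlgSp TopologicalSpace IsLocalRing

namespace Groth.Agent.H53.ValImage

open Groth.Agent.Lib.Helper54 Groth.Agent.H53.LocPrinc

variable {S : Scheme.{u}}

/-- Chart version. -/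
theorem exists_valuationRing_of_isSchImage_aux {X Y Z : Sp S} (hX : IsAlgSpace X)
    (hY : IsAlgSpace Y) (f : X ⟶ Y) (i : Z ⟶ Y) (hq : IsQuasiCompactMor f) (hZ : IsSchImage f i)
    (z : Points Z) {V : Over S} (hVaff : IsAffine V.left) (b : (yon S).obj V ⟶ Y)
    (hb : RepWith @Etale b) (v₀ : ↥V.left) (hbv : Points.ofPt b v₀ = Points.map i z) :
    ∃ (A : Type u) (_ : CommRing A) (_ : IsDomain A) (_ : ValuationRing A)
      (str : Spec (CommRingCat.of A) ⟶ S) (a : (yon S).obj (Over.mk str) ⟶ Z)
      (x : (yon S).obj (Over.mk (Spec.map (CommRingCat.ofHom (algebraMap A (FractionRing A))) ≫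
        str)) ⟶ X),
      Points.ofPt a (closedPoint A) = z ∧
      x ≫ f = (yon S).map (Over.homMk
        (Spec.map (CommRingCat.ofHom (algebraMap A (FractionRing A)))) rfl) ≫ a ≫ i := by
  have hZ' := hZ
  obtain ⟨hci, ⟨f₀, hf₀⟩, hmin⟩ := hZ
  have _ : IsAffine V.left := hVaff
  -- the closed subscheme `Z_V` of `V`
  let ZV : Over S := hci.rep.pullback b
  let jZ : ZV ⟶ V := hci.rep.snd b
  let aZ : (yon S).obj ZV ⟶ Z := hci.rep.fst b
  have sqZ : IsPullback aZ ((yon S).map jZ) i b := hci.rep.isPullback b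
  have hjZ : IsClosedImmersion jZ.left := hci.property_snd b
  -- a point of `Z_V` over `z` and `v₀`
  obtain ⟨pt, hpt1, hpt2⟩ := H52.exists_point_of_isPullback sqZ z (Points.ofScheme V v₀)
    (by rw [← Points.ofPt_eq_map_ofScheme]; exact hbv.symm)
  obtain ⟨v, rfl⟩ := (Points.schemeEquiv ZV).surjective pt
  have hv1 : Points.ofPt aZ v = z := by rw [Points.ofPt_eq_map_ofScheme]; exact hpt1
  have hv2 : jZ.left v = v₀ := by
    apply (Points.schemeEquiv V).injective
    refine Eq.trans ?_ hpt2
    exact (Points.map_yon_map_apply jZ v).symm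
  -- the base change of `f` to `V` and an affine atlas of it
  have sqX := IsPullback.of_hasPullback f b
  have hXValg : IsAlgSpace (pullback f b) :=
    H52.isAlgSpace_of_isPullback sqX hX hY (IsAlgSpace.yon_obj V)
  have hXVqc : IsQuasiCompactSp (pullback f b) :=
    hq (IsAlgSpace.yon_obj V) (H52.isQuasiCompactSp_yon V) b _ _ sqX
  obtain ⟨W, e, hWaff, hee, hes⟩ := exists_affine_etale_chart hXVqc
  have _ : IsAffine W.left := hWaff
  obtain ⟨d, hd⟩ := (yon S).map_surjective (e ≫ pullback.snd f b)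
  have hEpi : Epi e := H52.epi_of_repWith_etale_surjective e hee hes
  have hker : QcImage.IsKer (pullback.snd f b) d.left.ker := QcImage.isKer_of_atlas _ e d hd
  have hsch : IsSchImage (pullback.snd f b) ((yon S).map jZ) :=
    QcImage.isSchImage_pullback_of_flat (IsAlgSpace.yon_obj V) hY hX b
      (QcImage.locP_flat_of_isEtaleMor (H52.isEtaleMor_of_repWith_etale b hb)) f hq i hZ'
      (pullback.fst f b) (pullback.snd f b) sqX aZ ((yon S).map jZ) sqZ
  obtain ⟨-, ⟨fV, hfV⟩, hminV⟩ := hsch
  obtain ⟨β, hβ⟩ := (yon S).map_surjective (e ≫ fV)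
  have hβd : β ≫ jZ = d := by
    apply (yon S).map_injective
    rw [Functor.map_comp, hβ, Category.assoc, hfV, hd]
  -- `v₀` lies in the closure of the image of `W`
  have hcl : jZ.left v ∈ closure (Set.range d.left) := by
    obtain ⟨l, hl⟩ := (hker d.left.ker).2 le_rfl
    have hci' : RepWith @IsClosedImmersion ((yon S).map (subOverι V d.left.ker)) :=
      (repWith_yon_map_iff _ _).2 (inferInstanceAs (IsClosedImmersion d.left.ker.subschemeι))
    obtain ⟨k, hk⟩ := hminV ((yon S).map (subOverι V d.left.ker)) (IsAlgSpace.yon_obj _) hci'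
      ⟨l, hl⟩
    obtain ⟨k₀, rfl⟩ := (yon S).map_surjective k
    have hk₀ : k₀ ≫ subOverι V d.left.ker = jZ :=
      (yon S).map_injective (by rw [Functor.map_comp, hk])
    have h1 : jZ.left v = d.left.ker.subschemeι (k₀.left v) := by
      rw [← hk₀]
      rfl
    have h2 : (d.left.ker.support : Set ↥V.left) = closure (Set.range d.left) :=
      Scheme.Hom.support_ker d.left
    rw [h1, ← h2, ← Scheme.IdealSheafData.range_subschemeι]
    exact ⟨_, rfl⟩
  obtain ⟨x', A, α', hα1, hα2⟩ :=
    exists_valuationSubring_reaching d.left jZ.left β.left (congrArg (fun k => k.left) hβd) v hcl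
  -- assemble
  let str : Spec (CommRingCat.of A) ⟶ S := α' ≫ ZV.hom
  let αO : Over.mk str ⟶ ZV := Over.homMk α' rfl
  let ψ : W.left.residueField x' →+* FractionRing A :=
    (FractionRing.algEquiv A (W.left.residueField x')).symm.toAlgHom.toRingHom
  have hψ : ψ.comp (algebraMap A (W.left.residueField x')) = algebraMap A (FractionRing A) :=
    (FractionRing.algEquiv A (W.left.residueField x')).symm.toAlgHom.comp_algebraMap
  have hψ' : Spec.map (CommRingCat.ofHom ψ) ≫
      Spec.map (CommRingCat.ofHom (algebraMap A (W.left.residueField x'))) =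
      Spec.map (CommRingCat.ofHom (algebraMap A (FractionRing A))) := by
    rw [← Spec.map_comp, ← CommRingCat.ofHom_comp, hψ]
  have hξw : (Spec.map (CommRingCat.ofHom ψ) ≫ W.left.fromSpecResidueField x') ≫ W.hom =
      Spec.map (CommRingCat.ofHom (algebraMap A (FractionRing A))) ≫ str := by
    rw [← Over.w β, Category.assoc, ← Category.assoc (W.left.fromSpecResidueField x'), hα2,
      Category.assoc, ← Category.assoc, hψ']
  let ξ : Over.mk (Spec.map (CommRingCat.ofHom (algebraMap A (FractionRing A))) ≫ str) ⟶ W :=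
    Over.homMk (Spec.map (CommRingCat.ofHom ψ) ≫ W.left.fromSpecResidueField x') hξw
  refine ⟨A, inferInstance, inferInstance, inferInstance, str, (yon S).map αO ≫ aZ,
    (yon S).map ξ ≫ e ≫ pullback.fst f b, ?_, ?_⟩
  · rw [H53.ofPt_yon_map_comp]
    change Points.ofPt aZ (α' (closedPoint A)) = z
    rw [hα1, hv1]
  · let gO : Over.mk (Spec.map (CommRingCat.ofHom (algebraMap A (FractionRing A))) ≫ str) ⟶
        Over.mk str :=
      Over.homMk (Spec.map (CommRingCat.ofHom (algebraMap A (FractionRing A)))) rfl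
    have hcomp : ξ ≫ d = gO ≫ αO ≫ jZ := by
      apply Over.OverMorphism.ext
      change (Spec.map (CommRingCat.ofHom ψ) ≫ W.left.fromSpecResidueField x') ≫ d.left =
        Spec.map (CommRingCat.ofHom (algebraMap A (FractionRing A))) ≫ α' ≫ jZ.left
      rw [← hβd, Over.comp_left, Category.assoc, ← Category.assoc (W.left.fromSpecResidueField x'),
        hα2, Category.assoc, ← Category.assoc, hψ']
    have h1 : ((yon S).map ξ ≫ e ≫ pullback.fst f b) ≫ f = (yon S).map (ξ ≫ d) ≫ b := by
      rw [Functor.map_comp, hd, Category.assoc, Category.assoc, Category.assoc, Category.assoc,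
        sqX.w]
    have h2 : (yon S).map gO ≫ ((yon S).map αO ≫ aZ) ≫ i = (yon S).map (gO ≫ αO ≫ jZ) ≫ b := by
      rw [Functor.map_comp, Functor.map_comp, Category.assoc, Category.assoc, Category.assoc,
        sqZ.w]
    change _ = (yon S).map gO ≫ ((yon S).map αO ≫ aZ) ≫ i
    rw [h1, h2, hcomp]

/-- S9979. -/
theorem exists_valuationRing_of_isSchImage {X Y Z : Sp S} (hX : IsAlgSpace X) (hY : IsAlgSpace Y)
    (f : X ⟶ Y) (i : Z ⟶ Y) (hq : IsQuasiCompactMor f) (hZ : IsSchImage f i) (z : Points Z) :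
    ∃ (A : Type u) (_ : CommRing A) (_ : IsDomain A) (_ : ValuationRing A)
      (str : Spec (CommRingCat.of A) ⟶ S) (a : (yon S).obj (Over.mk str) ⟶ Z)
      (x : (yon S).obj (Over.mk (Spec.map (CommRingCat.ofHom (algebraMap A (FractionRing A))) ≫
        str)) ⟶ X),
      Points.ofPt a (closedPoint A) = z ∧
      x ≫ f = (yon S).map (Over.homMk
        (Spec.map (CommRingCat.ofHom (algebraMap A (FractionRing A)))) rfl) ≫ a ≫ i := by
  have hE : (RepWith (S := S) @Etale).IsMultiplicative := repWith_isMultiplicative _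
  obtain ⟨U, p, hpe, hps⟩ := hY.atlas
  obtain ⟨u, hu⟩ := Groth.Agent.H53.surjective_ofPt_of_surjective p hps (Points.map i z)
  obtain ⟨U₀, hU₀, huU₀⟩ := GenFin.exists_affineOpen_mem U.left u
  have hVaff : IsAffine (ZarGlue.ov U U₀).left := hU₀
  have hb : RepWith @Etale ((yon S).map (ZarGlue.ovι U U₀) ≫ p) := by
    refine hE.comp_mem _ _ ((repWith_yon_map_iff _ _).2 ?_) hpe
    exact inferInstanceAs (Etale U₀.ι)
  have hbv : Points.ofPt ((yon S).map (ZarGlue.ovι U U₀) ≫ p)
      (show ↥(ZarGlue.ov U U₀).left from ⟨u, huU₀⟩) = Points.map i z := by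
    rw [H53.ofPt_yon_map_comp]
    exact hu
  exact exists_valuationRing_of_isSchImage_aux hX hY f i hq hZ z hVaff _ hb _ hbv

end Groth.Agent.H53.ValImage
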