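import Mathlib

set_option autoImplicit false
set_option backward.isDefEq.respectTransparency false
universe u
open CategoryTheory CategoryTheory.Limits AlgebraicGeometry IsLocalRing

namespace Groth.Agent.H53.ValImage

/-- A point in the closure of the image of a morphism of affine schemes is a specialization of a
point of the image. -/
theorem exists_specializes_of_mem_closure_range {W V : Scheme.{u}} [IsAffine W] [IsAffine V]
    (d : W ⟶ V) (v₀ : ↥V) (hv : v₀ ∈ closure (Set.range d)) : ∃ x' : ↥W, d x' ⤳ v₀ := by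
  let φ := d.appTop
  have hnat : W.isoSpec.inv ≫ d = Spec.map φ ≫ V.isoSpec.inv := by
    rw [Iso.inv_comp_eq, ← Category.assoc, Iso.eq_comp_inv]
    exact (Scheme.isoSpec_hom_naturality d).symm
  let q : PrimeSpectrum Γ(V, ⊤) := V.isoSpec.hom v₀
  have hq : q ∈ closure (Set.range (PrimeSpectrum.comap φ.hom)) := by
    have h1 : q ∈ closure (V.isoSpec.hom '' Set.range d) :=
      image_closure_subset_closure_image V.isoSpec.hom.continuous ⟨v₀, hv, rfl⟩
    refine closure_mono ?_ h1
    rintro _ ⟨_, ⟨w, rfl⟩, rfl⟩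
    refine ⟨W.isoSpec.hom w, ?_⟩
    change (Spec.map φ) (W.isoSpec.hom w) = V.isoSpec.hom (d w)
    rw [← Scheme.Hom.comp_apply, ← Scheme.Hom.comp_apply, Scheme.isoSpec_hom_naturality]
  rw [PrimeSpectrum.closure_range_comap, PrimeSpectrum.mem_zeroLocus] at hq
  obtain ⟨p, hpmin, hpq⟩ := Ideal.exists_minimalPrimes_le hq
  obtain ⟨P, hP, -, hPp⟩ := Ideal.exists_comap_eq_of_mem_minimalPrimes φ.hom p
    (by rwa [← RingHom.ker_eq_comap_bot])
  let P' : PrimeSpectrum Γ(W, ⊤) := ⟨P, hP⟩
  refine ⟨W.isoSpec.inv P', ?_⟩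
  have h1 : d (W.isoSpec.inv P') = V.isoSpec.inv (Spec.map φ P') := by
    rw [← Scheme.Hom.comp_apply, hnat, Scheme.Hom.comp_apply]
  have h2 : v₀ = V.isoSpec.inv q := by
    change v₀ = V.isoSpec.inv (V.isoSpec.hom v₀)
    rw [← Scheme.Hom.comp_apply, Iso.hom_inv_id]
    rfl
  rw [h1, h2]
  apply Specializes.map _ V.isoSpec.inv.continuous
  rw [← PrimeSpectrum.le_iff_specializes]
  change P.comap φ.hom ≤ q.asIdeal
  rw [hPp]
  exact hpq

/-- A specialization `d x' ⤳ v₀` is realised by a valuation ring of the residue field of `x'`. -/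
theorem exists_valuationSubring_of_specializes {W V : Scheme.{u}} (d : W ⟶ V) (x' : ↥W) (v₀ : ↥V)
    (h : d x' ⤳ v₀) :
    ∃ (A : ValuationSubring (W.residueField x')) (α : Spec (CommRingCat.of A) ⟶ V),
      α (closedPoint A) = v₀ ∧
      W.fromSpecResidueField x' ≫ d =
        Spec.map (CommRingCat.ofHom (algebraMap A (W.residueField x'))) ≫ α := by
  let stalk_y_to_residue_x' : V.presheaf.stalk v₀ ⟶ W.residueField x' :=
    V.presheaf.stalkSpecializes h ≫ d.stalkMap x' ≫ W.residue x'
  obtain ⟨A, hA, hA_local⟩ := exists_factor_valuationRing stalk_y_to_residue_x'.hom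
  let stalk_y_to_A : V.presheaf.stalk v₀ ⟶ .of A :=
    CommRingCat.ofHom (stalk_y_to_residue_x'.hom.codRestrict _ hA)
  have w : W.fromSpecResidueField x' ≫ d =
      Spec.map (CommRingCat.ofHom (algebraMap A (W.residueField x'))) ≫
        Spec.map stalk_y_to_A ≫ V.fromSpecStalk v₀ := by
    rw [Scheme.fromSpecResidueField, Category.assoc, ← Scheme.SpecMap_stalkMap_fromSpecStalk,
      ← Scheme.SpecMap_stalkSpecializes_fromSpecStalk h]
    simp_rw [← Spec.map_comp_assoc]
    rfl
  refine ⟨A, Spec.map stalk_y_to_A ≫ V.fromSpecStalk v₀, ?_, w⟩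
  rw [Scheme.Hom.comp_apply]
  have : Spec.map stalk_y_to_A (closedPoint A) = closedPoint (V.presheaf.stalk v₀) :=
    comap_closedPoint (S := A) (stalk_y_to_residue_x'.hom.codRestrict A.toSubring hA)
  rw [this, V.fromSpecStalk_closedPoint]

/-- Lifting through a closed immersion along a scheme theoretically dominant morphism. -/
theorem exists_lift_closedImmersion {T' T Z V : Scheme.{u}} (j : Z ⟶ V) [IsClosedImmersion j]
    (α : T ⟶ V) (γ : T' ⟶ T) [IsSchemeTheoreticallyDominant γ] (β : T' ⟶ Z)
    (h : γ ≫ α = β ≫ j) : ∃ α' : T ⟶ Z, α' ≫ j = α := by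
  have H : j.ker ≤ α.ker := by
    have h1 : (γ ≫ α).ker = α.ker := by
      rw [Scheme.Hom.ker_comp, γ.ker_eq_bot, Scheme.IdealSheafData.map_bot]
    rw [← h1, h]
    exact Scheme.Hom.le_ker_comp β j
  exact ⟨IsClosedImmersion.lift j α H, IsClosedImmersion.lift_fac j α H⟩

/-- The generic point of the spectrum of a domain inside a field is scheme theoretically dominant. -/
theorem isSchemeTheoreticallyDominant_specMap_of_injective {A K : Type u} [CommRing A] [IsDomain A]
    [CommRing K] (φ : A →+* K) (hφ : Function.Injective φ) :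
    IsSchemeTheoreticallyDominant (Spec.map (CommRingCat.ofHom φ)) := by
  have : IsDominant (Spec.map (CommRingCat.ofHom φ)) := by
    constructor
    change DenseRange (PrimeSpectrum.comap φ)
    rw [PrimeSpectrum.denseRange_comap_iff_ker_le_nilRadical, (RingHom.injective_iff_ker_eq_bot φ).1 hφ]
    exact bot_le
  exact IsSchemeTheoreticallyDominant.of_isDominant _

/-- Scheme level statement: a point of a closed subscheme `Z` of `V` containing the image of `W`
and lying in the closure of this image is reached by a valuation ring whose generic point lifts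
to `W`. -/
theorem exists_valuationSubring_reaching {W V Z : Scheme.{u}} [IsAffine W] [IsAffine V]
    (d : W ⟶ V) (j : Z ⟶ V) [IsClosedImmersion j] (β : W ⟶ Z) (hβ : β ≫ j = d) (v : ↥Z)
    (hv : j v ∈ closure (Set.range d)) :
    ∃ (x' : ↥W) (A : ValuationSubring (W.residueField x')) (α' : Spec (CommRingCat.of A) ⟶ Z),
      α' (closedPoint A) = v ∧
      W.fromSpecResidueField x' ≫ β =
        Spec.map (CommRingCat.ofHom (algebraMap A (W.residueField x'))) ≫ α' := by
  obtain ⟨x', hx'⟩ := exists_specializes_of_mem_closure_range d (j v) hv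
  obtain ⟨A, α, hα1, hα2⟩ := exists_valuationSubring_of_specializes d x' (j v) hx'
  have hdom := isSchemeTheoreticallyDominant_specMap_of_injective
    (algebraMap A (W.residueField x')) Subtype.val_injective
  obtain ⟨α', hα'⟩ := exists_lift_closedImmersion j α
    (Spec.map (CommRingCat.ofHom (algebraMap A (W.residueField x'))))
    (W.fromSpecResidueField x' ≫ β) (by rw [← hα2, Category.assoc, hβ])
  refine ⟨x', A, α', ?_, ?_⟩
  · apply j.isEmbedding.injective
    rw [← Scheme.Hom.comp_apply, hα', hα1]
  · rw [← cancel_mono j, Category.assoc, hβ, hα2, Category.assoc, hα']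

end Groth.Agent.H53.ValImage
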